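import Cfsg.Agent.R2.DZ.Tools
import Cfsg.Agent.S2350
import Cfsg.Agent.S4760

/-!
# S4527: simple groups with cyclic Sylow `p`-subgroups have characters of `p`-defect zero

* `of_cyclic` : from S2350 and the theorem of Itô and Michler S4760;
* `of_not_sq_dvd` : simple groups of order not divisible by `p ^ 2`.
-/

set_option autoImplicit false

open Cfsg

namespace Cfsg.Agent.DZ3

open Cfsg.Agent.H665.NoPQ Cfsg.Agent.R2.DZ

universe u v

/-- a simple group with a cyclic Sylow `p`-subgroup -/
theorem of_cyclic {p : ℕ} [hp : Fact p.Prime] {G : Type u} [Group G] [Finite G] [IsSimpleGroup G]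
    (hna : ¬ IsMulCommutative G) (P : Sylow p G) (hP : IsCyclic P) : HasDZ p G := by
  by_cases hd : p ∣ Nat.card G
  swap
  · exact hasDZ_of_not_dvd hd
  have h1 : ¬ ∀ χ : Cfsg.IrrCharacter G, ¬ p ∣ Cfsg.charDegree (χ : G → ℂ) := by
    intro h
    obtain ⟨hn, hc⟩ := (Cfsg.Agent.S4760.result p P).2 h
    rcases hn.eq_bot_or_eq_top with hb | ht
    · have h2 : Nat.card (P : Subgroup G) = p ^ (Nat.card G).factorization p := P.card_eq_multiplicity
      rw [hb, Subgroup.card_bot] at h2
      have h3 := (hp.out.dvd_iff_one_le_factorization Nat.card_pos.ne').1 hd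
      have h4 := Nat.one_lt_pow (by omega : (Nat.card G).factorization p ≠ 0) hp.out.one_lt
      omega
    · apply hna
      refine ⟨⟨fun a b => ?_⟩⟩
      have ha : a ∈ (P : Subgroup G) := by rw [ht]; trivial
      have hb : b ∈ (P : Subgroup G) := by rw [ht]; trivial
      exact congrArg Subtype.val (hc.is_comm.comm (⟨a, ha⟩ : P) ⟨b, hb⟩)
  push Not at h1
  obtain ⟨χ, hχ⟩ := h1
  obtain ⟨d, hd1, hd2⟩ := Cfsg.Agent.S2350.result hna P hP (χ : G → ℂ) χ.2
  have h5 : charDegree (χ : G → ℂ) = d := by simp [charDegree, hd1]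
  rw [h5] at hχ
  rcases hd2 with h6 | h6
  · refine of_le χ.2 ?_
    rw [h5]
    have h7 : Nat.card P = p ^ (Nat.card G).factorization p := P.card_eq_multiplicity
    rw [h7] at h6
    have h0 : d ≠ 0 := by
      rintro rfl
      have := Cfsg.Agent.H674.Codegree.charDegree_spec χ.2
      omega
    exact (hp.out.pow_dvd_iff_le_factorization h0).1 h6
  · exact absurd (Nat.dvd_gcd dvd_rfl hχ) (by rw [h6]; exact hp.out.one_lt.ne' ∘ Nat.dvd_one.1)

/-- a simple group of order not divisible by `p ^ 2` -/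
theorem of_not_sq_dvd {p : ℕ} (hp : p.Prime) {G : Type u} [Group G] [Finite G] [IsSimpleGroup G]
    (hna : ¬ IsMulCommutative G) (h : ¬ p ^ 2 ∣ Nat.card G) : HasDZ p G := by
  have : Fact p.Prime := ⟨hp⟩
  by_cases hd : p ∣ Nat.card G
  swap
  · exact hasDZ_of_not_dvd hd
  have P : Sylow p G := Classical.arbitrary _
  refine of_cyclic hna P (isCyclic_of_prime_card (p := p) ?_)
  have h7 : Nat.card P = p ^ (Nat.card G).factorization p := P.card_eq_multiplicity
  have h1 := (hp.dvd_iff_one_le_factorization Nat.card_pos.ne').1 hd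
  have h2 : ¬ 2 ≤ (Nat.card G).factorization p := fun h2 => h ((hp.pow_dvd_iff_le_factorization Nat.card_pos.ne').2 h2)
  have h3 : (Nat.card G).factorization p = 1 := by omega
  rw [h7, h3, pow_one]

end Cfsg.Agent.DZ3
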