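import Cfsg.Agent.R2.DZ.Iface
import Cfsg.Agent.R2.DZ.T1.Main
import Cfsg.Agent.R2.DZ.T2.Main
import Cfsg.Agent.DZ3.Cl.Main
import Cfsg.Agent.DZ3.Ex.SzRee
import Cfsg.Agent.DZ3.Spor.Rows
import Cfsg.Agent.DL.Rows.Rows

/-!
# S4527: assembly from the seven open sporadic rows (helper58)
-/

set_option autoImplicit false

open Cfsg

namespace Cfsg.Agent.DZ3

open Cfsg.Agent.H665.NoPQ

universe u

/-- all the rows but seven sporadic cases -/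
theorem asm (hK : H995.CopEngine.AllKnown.{0}) (c1 : HasDZ 5 Spor.Co1) (c2 : HasDZ 5 Spor.Co2)
    (c3 : HasDZ 5 Spor.Co3) (hn : HasDZ 5 Spor.HN) (b5 : HasDZ 5 Spor.BabyMonster) (m5 : HasDZ 5 Spor.Monster)
    (m7 : HasDZ 7 Spor.Monster) (G : Type u) [Group G] [Finite G] [IsSimpleGroup G] (hna : ¬ IsMulCommutative G)
    (hk : IsKnownSimple' G) (p : ℕ) (hp : p.Prime) (h5 : 5 ≤ p) : HasDZ p G :=
  R2.DZ.main R2.DZ.T1.alt R2.DZ.T2.psl psp R2.DZ.T2.psu oodd oplus ominus DL.Rows.g2 DL.Rows.f4 DL.Rows.e6 DL.Rows.e7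
    DL.Rows.e8 DL.Rows.te6 DL.Rows.td4 sz ree DL.Rows.tf4 Spor.tits (Spor.spor_of hK c1 c2 c3 hn b5 m5 m7)
    G hna hk p hp h5

end Cfsg.Agent.DZ3
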