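import Cfsg.Agent.S0000
import Cfsg.Agent.DZ3.Asm
import Cfsg.Agent.DZ3.Glue
import Cfsg.Agent.DZ3.Spor.Fin
import Cfsg.Agent.DZ3.Spor.Mon

/-!
# S4527 from the row `B / 5` (helper58)
-/

set_option autoImplicit false

open Cfsg

namespace Cfsg.Agent.DZ3

open Cfsg.Agent.H665.NoPQ

/-- the statement from the last row -/
theorem pre (b5 : HasDZ 5 Spor.BabyMonster) {G : Type*} [Group G] [Finite G] [IsSimpleGroup G]
    (hna : ¬ IsMulCommutative G) (p : ℕ) (hp : p.Prime) (h5 : 5 ≤ p) :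
    ∃ χ : Cfsg.IrrCharacter G, (Cfsg.charDegree (χ : G → ℂ)).factorization p = (Nat.card G).factorization p :=
  asm (fun _ _ _ _ => S0000.result) Spor.co1_5 Spor.Co2.co2_5 Spor.Co3.co3_5 Spor.hn_5 b5 Spor.m5 Spor.m7 G hna
    S0000.result p hp h5

end Cfsg.Agent.DZ3
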